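import Groth.Agent.H66.CatQuot.Main
import Groth.Agent.H66.Trigon
import Groth.Agent.H66.Tame
import Groth.Agent.H83.Fppf
import Groth.Prelude.Def_CoactBr
import Groth.Prelude.Def_RedSub

/-! The quotient of an affine group by a linearly reductive closed subgroup is affine. -/

set_option autoImplicit false
set_option linter.style.haveILetI false
universe u

open CategoryTheory MonoidalCategory CartesianMonoidalCategory MonObj AlgebraicGeometry
open scoped TensorProduct

namespace Groth.Agent.H66.Quot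

noncomputable section

attribute [local instance] CoactBr.braidedAlgSpecOf

variable {k : Type u} [Field k] {AG AH : Type u} [CommRing AG] [HopfAlgebra k AG]
  [CommRing AH] [HopfAlgebra k AH]

/-- Translation coaction of the subgroup. -/
@[reducible] def transl (ψ : AG →ₐc[k] AH) : HopfRep.Comod k AH AG :=
  H66.Trigon.pushComod (ψ : AG →ₗc[k] AH) AG

theorem isCoactAlg_transl (ψ : AG →ₐc[k] AH) :
    letI := transl ψ; GLin.IsCoactAlg k AH AG := by
  letI := transl ψ
  have h : ∀ a, HopfRep.Comod.coact (k := k) (A := AH) a =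
      Algebra.TensorProduct.map (AlgHom.id k AG) (ψ : AG →ₐ[k] AH) (Bialgebra.comulAlgHom k AG a) :=
    fun _ => rfl
  exact ⟨by simp only [h, map_one], fun f g => by simp only [h, map_mul]⟩

open Functor in
theorem inv_μ_eq (k B A : Type u) [CommRing k] [CommRing B] [CommRing A] [Algebra k B] [Algebra k A] :
    lift (CoactBr.pt (Algebra.TensorProduct.includeLeft : B →ₐ[k] B ⊗[k] A))
        (CoactBr.pt (Algebra.TensorProduct.includeRight : A →ₐ[k] B ⊗[k] A)) ≫
      Functor.LaxMonoidal.μ (algSpec (CommRingCat.of k)) (Opposite.op (CommAlgCat.of k B))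
        (Opposite.op (CommAlgCat.of k A)) = 𝟙 (CoactBr.sp k (B ⊗[k] A)) := by
  rw [CoactBr.lift_pt_pt, ← CoactBr.pt_id]
  congr 1
  ext <;> simp

theorem exists_factor (k B A : Type u) [CommRing k] [CommRing B] [CommRing A] [Algebra k B] [Algebra k A]
    {T : Over (Spec (CommRingCat.of k))} (g : T ⟶ CoactBr.sp k B) (h : T ⟶ CoactBr.sp k A) :
    ∃ v : T ⟶ CoactBr.sp k (B ⊗[k] A),
      v ≫ CoactBr.pt (Algebra.TensorProduct.includeLeft : B →ₐ[k] B ⊗[k] A) = g ∧
      v ≫ CoactBr.pt (Algebra.TensorProduct.includeRight : A →ₐ[k] B ⊗[k] A) = h := by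
  let μF := Functor.LaxMonoidal.μ (algSpec (CommRingCat.of k)) (Opposite.op (CommAlgCat.of k B))
        (Opposite.op (CommAlgCat.of k A))
  let L := lift (CoactBr.pt (Algebra.TensorProduct.includeLeft : B →ₐ[k] B ⊗[k] A))
        (CoactBr.pt (Algebra.TensorProduct.includeRight : A →ₐ[k] B ⊗[k] A))
  refine ⟨lift g h ≫ μF, ?_⟩
  have e : μF ≫ L = 𝟙 _ := (cancel_mono μF).1 <| ((Category.assoc _ _ _).trans
    ((congrArg (μF ≫ ·) (inv_μ_eq k B A)).trans (Category.comp_id μF))).trans (Category.id_comp μF).symm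
  have hL1 : CoactBr.pt (Algebra.TensorProduct.includeLeft : B →ₐ[k] B ⊗[k] A) = L ≫ fst _ _ := (lift_fst _ _).symm
  have hL2 : CoactBr.pt (Algebra.TensorProduct.includeRight : A →ₐ[k] B ⊗[k] A) = L ≫ snd _ _ := (lift_snd _ _).symm
  constructor
  · rw [hL1]
    exact (Category.assoc (lift g h) μF _).trans ((congrArg (lift g h ≫ ·) ((Category.assoc μF L _).symm.trans
      ((congrArg (· ≫ fst _ _) e).trans (Category.id_comp _)))).trans (lift_fst g h))
  · rw [hL2]
    exact (Category.assoc (lift g h) μF _).trans ((congrArg (lift g h ≫ ·) ((Category.assoc μF L _).symm.trans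
      ((congrArg (· ≫ snd _ _) e).trans (Category.id_comp _)))).trans (lift_snd g h))

theorem translate_eq (ψ : AG →ₐc[k] AH) :
    letI := transl ψ; letI := isCoactAlg_transl ψ
    CoactBr.pt (Algebra.TensorProduct.includeLeft : AG →ₐ[k] AG ⊗[k] AH) *
      (CoactBr.pt (Algebra.TensorProduct.includeRight : AH →ₐ[k] AG ⊗[k] AH) ≫ CoactBr.pt (ψ : AG →ₐ[k] AH)) =
      CoactBr.pt (GLin.coactAlgHom k AH AG) := by
  letI := transl ψ
  letI := isCoactAlg_transl ψ
  rw [← CoactBr.pt_comp, CoactBr.pt_mul_pt]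
  congr 1
  refine AlgHom.ext fun a => ?_
  rw [AlgHom.comp_apply, GLin.coactAlgHom_apply]
  show _ =
    Algebra.TensorProduct.map (AlgHom.id k AG) (ψ : AG →ₐ[k] AH) (Bialgebra.comulAlgHom k AG a)
  generalize Bialgebra.comulAlgHom k AG a = z
  induction z using TensorProduct.induction_on with
  | zero => simp
  | add p q hp hq => simp only [map_add, hp, hq]
  | tmul p q => simp

variable [Algebra.FiniteType k AG] [Algebra.FiniteType k AH]

theorem isAffine_quotient (hH : HopfRep.IsLinearlyReductive k AH) (ψ : AG →ₐc[k] AH)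
    (Q : Over (Spec (CommRingCat.of k))) (q : CoactBr.sp k AG ⟶ Q)
    (hq : RedSub.IsQuotient (CoactBr.pt (ψ : AG →ₐ[k] AH)) q) : IsAffine Q.left := by
  letI := transl ψ
  letI := isCoactAlg_transl ψ
  obtain ⟨α₀, h1, h0⟩ := H66.Tame.hasIntegral_iff.2 hH
  let α : AH →ₗ[k] AG := Algebra.linearMap k AG ∘ₗ α₀
  have hα1 : α 1 = 1 := by simp [α, h1]
  have hα : Hoch.IsComodHom AH α := LinearMap.ext fun a => by
    change HopfRep.Comod.coact (k := k) (A := AH) (algebraMap k AG (α₀ a)) =
      (Algebra.linearMap k AG ∘ₗ α₀).rTensor AH (CoalgebraStruct.comul a)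
    rw [LinearMap.rTensor_comp_apply, ← h0, ← GLin.coactAlgHom_apply, AlgHom.commutes]
    simp
  let C := GLin.invariants k AH AG
  let v : CoactBr.sp k AG ⟶ CoactBr.sp k C := CoactBr.pt C.val
  let ρ := CoactBr.pt (GLin.coactAlgHom k AH AG)
  let π := CoactBr.pt (Algebra.TensorProduct.includeLeft : AG →ₐ[k] AG ⊗[k] AH)
  have hρπ : ρ ≫ v = π ≫ v := by
    rw [← CoactBr.pt_comp, ← CoactBr.pt_comp]
    exact congrArg _ (AlgHom.ext fun c => (GLin.mem_invariants_iff k AH AG _).1 c.2)
  obtain ⟨f, hf⟩ := H83.Fppf.exists_desc_quotient hq v fun T g h => by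
    obtain ⟨w, hw1, hw2⟩ := exists_factor k AG AH g h
    rw [← hw1, ← hw2, Category.assoc w, ← MonObj.comp_mul, translate_eq ψ, Category.assoc, Category.assoc]
    exact congrArg (w ≫ ·) hρπ
  have hqq : ρ ≫ q = π ≫ q := by
    have := H83.Fppf.eq_of_translate hq π (CoactBr.pt (Algebra.TensorProduct.includeRight : AH →ₐ[k] AG ⊗[k] AH))
    rwa [translate_eq ψ] at this
  have hψ : CatQuot.sMap k AH AG ≫ q.left = CatQuot.tMap k AH AG ≫ q.left := by
    have := congrArg CommaMorphism.left hqq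
    exact this
  obtain ⟨χ, hχ, -⟩ := CatQuot.existsUnique_desc hα hα1 q.left hψ
  have hfl : q.left ≫ f.left = CatQuot.pMap k AH AG := congrArg CommaMorphism.left hf
  obtain ⟨χ', -, hu⟩ := CatQuot.existsUnique_desc hα hα1 (CatQuot.pMap k AH AG) CatQuot.sMap_pMap
  have e1 : χ ≫ f.left = 𝟙 _ := by
    exact (hu _ ((Category.assoc _ _ _).symm.trans ((congrArg (· ≫ f.left) hχ).trans hfl))).trans
      (hu (𝟙 _) (Category.comp_id _)).symm
  have e2 : f.left ≫ χ = 𝟙 _ := by
    haveI := (H83.Fppf.isCov_of_isQuotient hq).effectiveEpi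
    refine (cancel_epi q.left).1 ?_
    exact (Category.assoc _ _ _).symm.trans ((congrArg (· ≫ χ) hfl).trans (hχ.trans (Category.comp_id _).symm))
  haveI : IsIso χ := ⟨f.left, e1, e2⟩
  exact IsAffine.of_isIso (inv χ)

end

end Groth.Agent.H66.Quot
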