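import Groth.Agent.H66.LinRed
import Groth.Agent.H66.Tame
import Groth.Prelude.Def_GLin
import Mathlib

/-!
Fixed vectors from a Galois extension with a Reynolds functional: if `R → P` is faithfully flat with
`P ⊗_R P ≅ P ⊗ H` and `P` carries an invariant functional `I` with `I 1 = 1`, then `H` is linearly
reductive.
-/

set_option autoImplicit false
set_option linter.style.haveILetI false
set_option linter.unusedSectionVars false
universe u

open TensorProduct

namespace Groth.Agent.H66.Quot

noncomputable section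

section Matrix

variable {k : Type u} [Field k] {H : Type u} [CommRing H] [HopfAlgebra k H]
  {V : Type u} [AddCommGroup V] [Module k V] [HopfRep.Comod k H V] {n : ℕ} (e : Module.Basis (Fin n) k V)

/-- The matrix of a coaction. -/
def mat : Matrix (Fin n) (Fin n) H :=
  fun i j => TensorProduct.lid k H ((e.coord i).rTensor H (HopfRep.Comod.coact (k := k) (A := H) (e j)))

theorem coact_eq (j : Fin n) :
    HopfRep.Comod.coact (k := k) (A := H) (e j) = ∑ i, e i ⊗ₜ[k] mat (H := H) e i j := by
  simp only [mat]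
  generalize HopfRep.Comod.coact (k := k) (A := H) (e j) = z
  induction z using TensorProduct.induction_on with
  | zero => simp
  | add x y hx hy => simp only [map_add, TensorProduct.tmul_add, Finset.sum_add_distrib, ← hx, ← hy]
  | tmul x y =>
    simp only [LinearMap.rTensor_tmul, TensorProduct.lid_tmul, ← TensorProduct.smul_tmul, ← TensorProduct.sum_tmul,
      Module.Basis.coord_apply, e.sum_repr]

theorem comul_mat (i j : Fin n) :
    CoalgebraStruct.comul (R := k) (mat (H := H) e i j) = ∑ l, mat (H := H) e i l ⊗ₜ[k] mat (H := H) e l j := by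
  have h := H66.Base.coassoc_apply (k := k) (A := H) (e j)
  rw [coact_eq e] at h
  simp only [map_sum, LinearMap.rTensor_tmul, LinearMap.lTensor_tmul, coact_eq e, TensorProduct.sum_tmul,
    TensorProduct.assoc_tmul] at h
  have h2 := congrArg (fun z => TensorProduct.lid k (H ⊗[k] H) ((e.coord i).rTensor (H ⊗[k] H) z)) h
  simp [map_sum, Finsupp.single_apply] at h2
  exact h2.symm

theorem counit_mat (i j : Fin n) :
    CoalgebraStruct.counit (R := k) (mat (H := H) e i j) = if i = j then 1 else 0 := by
  have h := LinearMap.congr_fun (HopfRep.Comod.counit_comp (k := k) (A := H) (V := V)) (e j)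
  rw [LinearMap.comp_apply, coact_eq e] at h
  have h2 := congrArg (fun z => TensorProduct.lid k k ((e.coord i).rTensor k z)) h
  simpa [map_sum, Finsupp.single_apply, eq_comm] using h2

/-- The inverse matrix. -/
def matInv : Matrix (Fin n) (Fin n) H := (mat (H := H) e).map (HopfAlgebraStruct.antipode k)

theorem mat_mul_matInv : mat (H := H) e * matInv (H := H) e = 1 := by
  ext i j
  have h := LinearMap.congr_fun (HopfAlgebra.mul_antipode_lTensor_comul (R := k) (A := H)) (mat (H := H) e i j)
  simp only [LinearMap.comp_apply, comul_mat e, map_sum, LinearMap.lTensor_tmul, LinearMap.mul'_apply, counit_mat e,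
    Algebra.linearMap_apply] at h
  simp only [Matrix.mul_apply, matInv, Matrix.map_apply, h, Matrix.one_apply]
  split <;> simp

theorem comul_matInv (i l : Fin n) :
    ∑ j, Bialgebra.comulAlgHom k H (matInv (H := H) e j l) * ((1 : H) ⊗ₜ[k] mat (H := H) e i j) = matInv (H := H) e i l ⊗ₜ[k] (1 : H) := by
  let c := mat (H := H) e
  let c' := matInv (H := H) e
  let Δ := Bialgebra.comulAlgHom k H
  let iL : H →ₐ[k] H ⊗[k] H := Algebra.TensorProduct.includeLeft
  let iR : H →ₐ[k] H ⊗[k] H := Algebra.TensorProduct.includeRight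
  have hR' : c.map iR * c'.map Δ = c'.map iL := by
    have h1 : c.map Δ = c.map iL * c.map iR := by
      ext i j
      simp [c, Δ, iL, iR, comul_mat e, Matrix.mul_apply]
    have e1 : ∀ f : H →ₐ[k] H ⊗[k] H, c.map f * c'.map f = 1 := fun f => by
      rw [← Matrix.map_mul, show c * c' = 1 from mat_mul_matInv e, Matrix.map_one _ (map_zero f) (map_one f)]
    have e2 := e1 Δ
    rw [h1, Matrix.mul_assoc] at e2
    calc c.map iR * c'.map Δ = (c'.map iL * c.map iL) * (c.map iR * c'.map Δ) := by
          rw [mul_eq_one_comm.1 (e1 iL), one_mul]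
      _ = c'.map iL := by rw [Matrix.mul_assoc, e2, mul_one]
  have h1 := congrFun (congrFun hR' i) l
  simp only [Matrix.mul_apply, Matrix.map_apply] at h1
  refine (Finset.sum_congr rfl fun j _ => mul_comm _ _).trans ?_
  exact h1

end Matrix

variable {k : Type u} [Field k] {H : Type u} [CommRing H] [HopfAlgebra k H]
variable {R P : Type u} [CommRing R] [CommRing P] [Algebra k R] [Algebra k P] [Algebra R P]
  [IsScalarTower k R P] [HopfRep.Comod k H P] [GLin.IsCoactAlg k H P]

variable (k H P) in
/-- `p ⊗ h ↦ p ⊗ Δh`. -/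
def Ext : P ⊗[k] H →ₐ[k] (P ⊗[k] H) ⊗[k] H :=
  (Algebra.TensorProduct.assoc k k k P H H).symm.toAlgHom.comp
    (Algebra.TensorProduct.map (AlgHom.id k P) (Bialgebra.comulAlgHom k H))

theorem ext_coact (p : P) :
    Ext k H P (GLin.coactAlgHom k H P p) =
      LinearMap.rTensor H (HopfRep.Comod.coact (k := k) (A := H) (V := P)) (GLin.coactAlgHom k H P p) := by
  rw [GLin.coactAlgHom_apply, H66.Base.coassoc_symm_apply]
  induction HopfRep.Comod.coact (k := k) (A := H) p using TensorProduct.induction_on with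
  | zero => simp
  | add x y hx hy => simp only [map_add, hx, hy]
  | tmul x y =>
    simp only [Ext, AlgHom.comp_apply, Algebra.TensorProduct.map_tmul, AlgHom.id_apply, LinearMap.lTensor_tmul,
      Bialgebra.comulAlgHom_apply]
    rfl

theorem ext_tmul_one_mul (a : P) (z : P ⊗[k] H) :
    Ext k H P ((a ⊗ₜ[k] (1 : H)) * z) = ((a ⊗ₜ[k] (1 : H)) ⊗ₜ[k] (1 : H)) * Ext k H P z := by
  rw [map_mul]
  congr 1
  simp [Ext, Algebra.TensorProduct.one_def]

theorem ext_one_tmul (h : H) :
    Ext k H P ((1 : P) ⊗ₜ[k] h) =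
      Algebra.TensorProduct.map (Algebra.TensorProduct.includeRight : H →ₐ[k] P ⊗[k] H) (AlgHom.id k H)
        (Bialgebra.comulAlgHom k H h) := by
  simp only [Ext, AlgHom.comp_apply, Algebra.TensorProduct.map_tmul, AlgHom.id_apply]
  generalize Bialgebra.comulAlgHom k H h = z
  induction z using TensorProduct.induction_on with
  | zero => simp
  | add x y hx hy => simp only [map_add, TensorProduct.tmul_add, hx, hy]
  | tmul x y => rfl

/-- An element whose two images agree comes from the base of a faithfully flat extension. -/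
theorem mem_range_of_tmul_comm [Module.FaithfullyFlat R P] (x : P) (hx : (1 : P) ⊗ₜ[R] x = x ⊗ₜ[R] (1 : P)) :
    x ∈ Set.range (algebraMap R P) := by
  let N := P ⧸ LinearMap.range (Algebra.linearMap R P)
  let q : P →ₗ[R] N := Submodule.mkQ _
  have h := congrArg (q.lTensor P) hx
  rw [LinearMap.lTensor_tmul, LinearMap.lTensor_tmul,
    show q 1 = 0 from (Submodule.Quotient.mk_eq_zero _).2 ⟨1, by simp⟩, TensorProduct.tmul_zero] at h
  have h0 : q x = 0 := Module.FaithfullyFlat.tensorProduct_mk_injective (A := R) (B := P) N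
    (a₁ := q x) (a₂ := 0) (h.trans (TensorProduct.tmul_zero _ _).symm)
  exact (Submodule.Quotient.mk_eq_zero _).1 h0

variable [Module.FaithfullyFlat R P]

/-- The defining data of a Galois extension. -/
structure Gal (k H R P : Type u) [Field k] [CommRing H] [HopfAlgebra k H] [CommRing R] [CommRing P] [Algebra k R]
    [Algebra k P] [Algebra R P] [IsScalarTower k R P] [HopfRep.Comod k H P] [GLin.IsCoactAlg k H P] where
  inv : ∀ r : R, GLin.coactAlgHom k H P (algebraMap R P r) = algebraMap R P r ⊗ₜ[k] (1 : H)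
  can : P ⊗[R] P →ₗ[R] P ⊗[k] H
  can_tmul : ∀ a b : P, can (a ⊗ₜ[R] b) = (a ⊗ₜ[k] (1 : H)) * GLin.coactAlgHom k H P b
  bij : Function.Bijective can

variable (G : Gal k H R P)

/-- The coaction as a linear map over the base. -/
def Gal.coactR : P →ₗ[R] P ⊗[k] H where
  toFun := GLin.coactAlgHom k H P
  map_add' := map_add _
  map_smul' r p := by
    rw [Algebra.smul_def, map_mul, G.inv, RingHom.id_apply, Algebra.smul_def]
    rfl

@[simp] theorem Gal.coactR_apply (p : P) : G.coactR p = GLin.coactAlgHom k H P p := rfl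

variable {n : ℕ} (c : Matrix (Fin n) (Fin n) H)

/-- The invariance equations. -/
def Gal.dmap : (Fin n → P) →ₗ[R] (Fin n → P ⊗[k] H) :=
  LinearMap.pi fun i =>
    (∑ j, (LinearMap.mulRight R ((1 : P) ⊗ₜ[k] c i j)) ∘ₗ G.coactR ∘ₗ LinearMap.proj j) -
      (Algebra.TensorProduct.includeLeft : P →ₐ[R] P ⊗[k] H).toLinearMap ∘ₗ LinearMap.proj i

theorem Gal.dmap_apply (m : Fin n → P) (i : Fin n) :
    G.dmap c m i = ∑ j, GLin.coactAlgHom k H P (m j) * ((1 : P) ⊗ₜ[k] c i j) - m i ⊗ₜ[k] (1 : H) := by
  simp [Gal.dmap]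

theorem Gal.dmap_single (l : Fin n) (b : P) (i : Fin n) :
    G.dmap c (LinearMap.single R (fun _ => P) l b) i =
      GLin.coactAlgHom k H P b * ((1 : P) ⊗ₜ[k] c i l) - if i = l then b ⊗ₜ[k] (1 : H) else 0 := by
  rw [Gal.dmap_apply, Finset.sum_eq_single l (fun j _ hj => by simp [Pi.single_eq_of_ne hj]) (by simp)]
  congr 1
  · simp
  · split
    · rename_i hil; subst hil; simp
    · rename_i hil; simp [Pi.single_eq_of_ne hil]

/-- The comparison on the target of the equations. -/
def Gal.theta : P ⊗[R] (P ⊗[k] H) →ₗ[k] (P ⊗[k] H) ⊗[k] H :=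
  (G.can.restrictScalars k).rTensor H ∘ₗ
    (AlgebraTensorModule.assoc k R R P P H).symm.toLinearMap.restrictScalars k

theorem Gal.theta_tmul (a b : P) (h : H) : G.theta (a ⊗ₜ[R] (b ⊗ₜ[k] h)) = G.can (a ⊗ₜ[R] b) ⊗ₜ[k] h := rfl

theorem Gal.theta_injective : Function.Injective G.theta := by
  intro x y h
  unfold Gal.theta at h
  rw [LinearMap.comp_apply, LinearMap.comp_apply] at h
  have h1 := Module.Flat.rTensor_preserves_injective_linearMap (M := H) (G.can.restrictScalars k) G.bij.1 h
  exact (AlgebraTensorModule.assoc k R R P P H).symm.injective h1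

theorem Gal.theta_coact (a p : P) (h : H) :
    G.theta (a ⊗ₜ[R] (GLin.coactAlgHom k H P p * ((1 : P) ⊗ₜ[k] h))) =
      Ext k H P (G.can (a ⊗ₜ[R] p)) * ((1 : P ⊗[k] H) ⊗ₜ[k] h) := by
  have hg : ∀ z : P ⊗[k] H, G.theta (a ⊗ₜ[R] (z * ((1 : P) ⊗ₜ[k] h))) =
      ((a ⊗ₜ[k] (1 : H)) ⊗ₜ[k] (1 : H)) *
        LinearMap.rTensor H (HopfRep.Comod.coact (k := k) (A := H) (V := P)) z * ((1 : P ⊗[k] H) ⊗ₜ[k] h) := by
    intro z
    induction z using TensorProduct.induction_on with
    | zero => simp
    | add x y hx hy => simp only [add_mul, TensorProduct.tmul_add, map_add, mul_add, hx, hy]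
    | tmul x y =>
      rw [Algebra.TensorProduct.tmul_mul_tmul, G.theta_tmul, G.can_tmul, mul_one, LinearMap.rTensor_tmul,
        Algebra.TensorProduct.tmul_mul_tmul, Algebra.TensorProduct.tmul_mul_tmul, mul_one, one_mul,
        GLin.coactAlgHom_apply]
  rw [hg, ← ext_coact, G.can_tmul, ext_tmul_one_mul]

theorem Gal.theta_dmap (l i : Fin n) (z : P ⊗[R] P) :
    G.theta (TensorProduct.piRight R R P _ ((G.dmap c).lTensor P
        ((LinearMap.single R (fun _ => P) l).lTensor P z)) i) =
      Ext k H P (G.can z) * ((1 : P ⊗[k] H) ⊗ₜ[k] c i l) - if i = l then G.can z ⊗ₜ[k] (1 : H) else 0 := by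
  induction z using TensorProduct.induction_on with
  | zero => simp
  | add x y hx hy =>
    simp only [map_add, Pi.add_apply, hx, hy, add_mul, TensorProduct.add_tmul]
    split <;> abel
  | tmul a b =>
    rw [LinearMap.lTensor_tmul, LinearMap.lTensor_tmul, TensorProduct.piRight_apply,
      TensorProduct.piRightHom_tmul]
    dsimp only
    rw [← G.theta_coact, G.dmap_single, TensorProduct.tmul_sub, map_sub]
    congr 1
    split
    · rw [G.theta_tmul]
    · simp

/-- The invariant tensor. -/
def Gal.sol (y : Fin n → H) : P ⊗[R] (Fin n → P) :=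
  ∑ i, (LinearMap.single R (fun _ => P) i).lTensor P ((G.bij.2 ((1 : P) ⊗ₜ[k] y i)).choose)

theorem Gal.dmap_sol (y : Fin n → H)
    (hy : ∀ i, ∑ j, Bialgebra.comulAlgHom k H (y j) * ((1 : H) ⊗ₜ[k] c i j) = y i ⊗ₜ[k] (1 : H)) :
    (G.dmap c).lTensor P (G.sol y) = 0 := by
  refine (TensorProduct.piRight R R P _).injective (funext fun i => G.theta_injective ?_)
  rw [map_zero (TensorProduct.piRight R R P _)]
  simp only [Pi.zero_apply, map_zero]
  simp only [Gal.sol, map_sum, Finset.sum_apply, G.theta_dmap, (G.bij.2 _).choose_spec, Finset.sum_sub_distrib,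
    Finset.sum_ite_eq, Finset.mem_univ, if_true]
  rw [sub_eq_zero]
  have hy' := congrArg
    (Algebra.TensorProduct.map (Algebra.TensorProduct.includeRight : H →ₐ[k] P ⊗[k] H) (AlgHom.id k H)) (hy i)
  simp only [map_sum, map_mul] at hy'
  simp only [ext_one_tmul]
  exact hy'

section Fixed

variable {V : Type u} [AddCommGroup V] [Module k V] [HopfRep.Comod k H V] (e : Module.Basis (Fin n) k V)
variable (π : V →ₗ[k] k)
  (hπ1 : LinearMap.rTensor H π ∘ₗ HopfRep.Comod.coact (k := k) (A := H) (V := V) =
        (TensorProduct.mk k k H).flip (1 : H) ∘ₗ π)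

/-- Contraction with a functional. -/
def contr : (Fin n → P) →ₗ[R] P := ∑ j, (π (e j)) • LinearMap.proj j

theorem contr_apply (m : Fin n → P) : contr (R := R) e π m = ∑ j, π (e j) • m j := by
  simp [contr, LinearMap.sum_apply]

include hπ1

theorem sum_mat_π (j : Fin n) : ∑ i, π (e i) • mat (H := H) e i j = π (e j) • (1 : H) := by
  have h := congrArg (TensorProduct.lid k H) (LinearMap.congr_fun hπ1 (e j))
  simpa [coact_eq e] using h

theorem sum_matInv_π (j : Fin n) : ∑ i, π (e i) • matInv (H := H) e i j = π (e j) • (1 : H) := by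
  have h2 : ∀ l, π (e l) • matInv (H := H) e l j = ∑ i, π (e i) • (mat (H := H) e i l * matInv (H := H) e l j) := fun l => by
    rw [← Finset.sum_congr rfl fun i _ => smul_mul_assoc (π (e i)) (mat (H := H) e i l) (matInv (H := H) e l j), ← Finset.sum_mul,
      sum_mat_π e π hπ1, smul_mul_assoc, one_mul]
  simp only [h2]
  rw [Finset.sum_comm]
  have h3 : ∀ i, ∑ l, mat (H := H) e i l * matInv (H := H) e l j = (1 : Matrix (Fin n) (Fin n) H) i j := fun i => by
    rw [← mat_mul_matInv e, Matrix.mul_apply]
  simp only [← Finset.smul_sum, h3, Matrix.one_apply, smul_ite, smul_zero, Finset.sum_ite_eq',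
    Finset.mem_univ, if_true]

include G in
theorem contr_mem_range (m : Fin n → P) (hm : G.dmap (mat (H := H) e) m = 0) :
    contr (R := R) e π m ∈ Set.range (algebraMap R P) := by
  refine mem_range_of_tmul_comm _ (G.bij.1 ?_)
  rw [G.can_tmul, G.can_tmul, map_one, mul_one, ← Algebra.TensorProduct.one_def, one_mul]
  have hmi : ∀ i, ∑ j, GLin.coactAlgHom k H P (m j) * ((1 : P) ⊗ₜ[k] mat (H := H) e i j) = m i ⊗ₜ[k] (1 : H) := by
    intro i
    have := congrFun hm i
    rwa [G.dmap_apply, Pi.zero_apply, sub_eq_zero] at this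
  simp only [contr_apply, map_sum, map_smul, TensorProduct.sum_tmul, ← TensorProduct.smul_tmul', ← hmi,
    Finset.smul_sum]
  rw [Finset.sum_comm]
  refine Finset.sum_congr rfl fun j _ => ?_
  simp only [← mul_smul_comm, ← Finset.mul_sum, ← TensorProduct.tmul_smul, ← TensorProduct.tmul_sum,
    sum_mat_π e π hπ1]
  rw [TensorProduct.tmul_smul, ← Algebra.TensorProduct.one_def, mul_smul_comm, mul_one]

/-- The standard solution vector. -/
theorem sum_π_y (v : V) (hv : π v = 1) :
    ∑ i, π (e i) • (∑ j, matInv (H := H) e i j * algebraMap k H (e.repr v j)) = 1 := by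
  simp only [Finset.smul_sum]
  rw [Finset.sum_comm]
  simp only [← smul_mul_assoc, ← Finset.sum_mul, sum_matInv_π e π hπ1]
  simp only [smul_mul_assoc, one_mul, ← Algebra.algebraMap_eq_smul_one, Algebra.smul_def, ← map_mul, ← map_sum]
  have : ∑ x, π (e x) * e.repr v x = 1 := by
    have h := congrArg π (e.sum_repr v)
    simp only [map_sum, map_smul, smul_eq_mul, hv] at h
    simpa [mul_comm] using h
  simp only [mul_one, ← map_mul, ← map_sum]
  rw [this, map_one]

include G in
theorem exists_contr_eq_one (hπ : Function.Surjective π) :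
    ∃ m, G.dmap (mat (H := H) e) m = 0 ∧ contr (R := R) e π m = 1 := by
  obtain ⟨v, hv⟩ := hπ 1
  let y : Fin n → H := fun i => ∑ j, matInv (H := H) e i j * algebraMap k H (e.repr v j)
  have hy : ∀ i, ∑ j, Bialgebra.comulAlgHom k H (y j) * ((1 : H) ⊗ₜ[k] mat (H := H) e i j) = y i ⊗ₜ[k] (1 : H) := by
    intro i
    simp only [y, map_sum, map_mul, AlgHom.commutes, Finset.sum_mul]
    rw [Finset.sum_comm, TensorProduct.sum_tmul]
    refine Finset.sum_congr rfl fun l _ => ?_
    simp only [mul_right_comm _ (algebraMap k (H ⊗[k] H) _) _]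
    rw [← Finset.sum_mul, comul_matInv e, Algebra.TensorProduct.algebraMap_apply, Algebra.TensorProduct.tmul_mul_tmul,
      one_mul]
  let F := contr (R := R) (P := P) e π
  let d := G.dmap (mat (H := H) e)
  let 𝔞 : Ideal R := ((LinearMap.ker d).map F).comap (Algebra.linearMap R P)
  obtain ⟨Y, hY⟩ := (Module.Flat.lTensor_exact P (LinearMap.exact_subtype_ker_map d) (G.sol y)).1
    (G.dmap_sol (mat (H := H) e) y hy)
  have hone : (1 : P) ∈ 𝔞.map (algebraMap R P) := by
    have hkey : ∀ Y' : P ⊗[R] LinearMap.ker d,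
        LinearMap.mul' R P (F.lTensor P ((LinearMap.ker d).subtype.lTensor P Y')) ∈ 𝔞.map (algebraMap R P) := by
      intro Y'
      induction Y' using TensorProduct.induction_on with
      | zero => simp
      | add x y hx hy => simp only [map_add]; exact add_mem hx hy
      | tmul a m =>
        simp only [LinearMap.lTensor_tmul, LinearMap.mul'_apply, Submodule.subtype_apply]
        obtain ⟨r, hr⟩ := contr_mem_range G e π hπ1 m m.2
        rw [show F m = algebraMap R P r from hr.symm]
        exact Ideal.mul_mem_left _ _ (Ideal.mem_map_of_mem _ ⟨m, m.2, hr.symm⟩)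
    have h1 : F.lTensor P (G.sol y) = (1 : P) ⊗ₜ[R] (1 : P) := by
      refine G.bij.1 ?_
      rw [G.can_tmul, map_one, mul_one]
      simp only [Gal.sol, map_sum, ← LinearMap.lTensor_comp_apply]
      have hFs : ∀ l, F ∘ₗ LinearMap.single R (fun _ => P) l = π (e l) • LinearMap.id := by
        intro l
        refine LinearMap.ext fun p => ?_
        simp [F, contr_apply, Pi.single_apply]
      have hs : ∀ (l : Fin n) (z : P ⊗[R] P),
          G.can ((π (e l) • LinearMap.id : P →ₗ[R] P).lTensor P z) = π (e l) • G.can z := by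
        intro l z
        induction z using TensorProduct.induction_on with
        | zero => simp
        | add x y hx hy => simp only [map_add, smul_add, hx, hy]
        | tmul a b =>
          rw [LinearMap.lTensor_tmul, LinearMap.smul_apply, LinearMap.id_apply, G.can_tmul, map_smul, G.can_tmul,
            mul_smul_comm]
      simp only [hFs, hs, (G.bij.2 _).choose_spec, ← TensorProduct.tmul_smul, ← TensorProduct.tmul_sum, y,
        sum_π_y e π hπ1 v hv]
    have := hkey Y
    rwa [hY, h1, LinearMap.mul'_apply, one_mul] at this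
  have htop : (1 : R) ∈ 𝔞 := by
    rw [← Ideal.comap_map_eq_self_of_faithfullyFlat (B := P) 𝔞, Ideal.mem_comap, map_one]
    exact hone
  obtain ⟨m, hm, hFm⟩ := htop
  exact ⟨m, hm, hFm.trans (by simp)⟩

end Fixed

include G in
/-- A Galois extension with an invariant normalised functional. -/
theorem isLinearlyReductive_of_galois (I : P →ₗ[k] k)
    (hI : ∀ p : P, I p ⊗ₜ[k] (1 : H) = I.rTensor H (GLin.coactAlgHom k H P p)) (hI1 : I 1 = 1) :
    HopfRep.IsLinearlyReductive k H := by
  refine H66.LinRed.isLinearlyReductive_of_criterion fun V _ _ _ hV π hπ hπ1 => ?_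
  let e := Module.finBasis k V
  obtain ⟨m, hm, hm1⟩ := exists_contr_eq_one G e π hπ1 hπ
  have key : ∀ (z : P ⊗[k] H) (h : H),
      TensorProduct.lid k H (I.rTensor H (z * ((1 : P) ⊗ₜ[k] h))) = TensorProduct.lid k H (I.rTensor H z) * h := by
    intro z h
    induction z using TensorProduct.induction_on with
    | zero => simp
    | add x y hx hy => simp only [add_mul, map_add, hx, hy]
    | tmul x y => simp
  have h1 : ∀ i, ∑ j, I (m j) • mat (H := H) e i j = I (m i) • (1 : H) := by
    intro i
    have h0 := congrFun hm i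
    rw [G.dmap_apply, Pi.zero_apply, sub_eq_zero] at h0
    have := congrArg (fun z => TensorProduct.lid k H (I.rTensor H z)) h0
    simp only [map_sum, key, LinearMap.rTensor_tmul, TensorProduct.lid_tmul] at this
    simp only [← hI, TensorProduct.lid_tmul, smul_mul_assoc, one_mul] at this
    exact this
  refine ⟨∑ i, I (m i) • e i, ?_, ?_⟩
  · show HopfRep.Comod.coact (k := k) (A := H) (∑ i, I (m i) • e i) = (∑ i, I (m i) • e i) ⊗ₜ[k] (1 : H)
    simp only [map_sum, map_smul, coact_eq e, Finset.smul_sum, TensorProduct.sum_tmul, TensorProduct.smul_tmul',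
      TensorProduct.smul_tmul]
    rw [Finset.sum_comm]
    refine Finset.sum_congr rfl fun i _ => ?_
    rw [← TensorProduct.tmul_sum, h1]
  · have h : π (∑ i, I (m i) • e i) = I (contr (R := R) e π m) := by
      simp [contr_apply, map_sum, mul_comm]
    rw [h, hm1, hI1]
    exact one_ne_zero

end

end Groth.Agent.H66.Quot
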