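import Groth.Agent.H66.Quot.Affine
import Groth.Agent.H66.Quot.Galois

/-! A closed subgroup of a linearly reductive group with affine quotient is linearly reductive. -/

set_option autoImplicit false
set_option linter.style.haveILetI false
universe u

open CategoryTheory MonoidalCategory CartesianMonoidalCategory MonObj AlgebraicGeometry
open scoped TensorProduct

namespace Groth.Agent.H66.Quot

noncomputable section

attribute [local instance] CoactBr.braidedAlgSpecOf

/-- Points of an affine scheme with values in an affine scheme are ring maps. -/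
theorem exists_pt_eq {k B K : Type u} [CommRing k] [CommRing B] [CommRing K] [Algebra k B] [Algebra k K]
    (w : CoactBr.sp k K ⟶ CoactBr.sp k B) : ∃ χ : B →ₐ[k] K, CoactBr.pt χ = w := by
  obtain ⟨g, hg⟩ := Spec.map_surjective (R := CommRingCat.of B) (S := CommRingCat.of K) w.left
  have hc := Over.w w
  rw [← hg] at hc
  have h2 : CommRingCat.ofHom (algebraMap k B) ≫ g = CommRingCat.ofHom (algebraMap k K) :=
    Spec.map_injective ((Spec.map_comp _ _).trans hc)
  refine ⟨⟨g.hom, fun r => congrArg (fun f : CommRingCat.of k ⟶ CommRingCat.of K => f.hom r) h2⟩, ?_⟩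
  exact Over.OverMorphism.ext hg

variable {k : Type u} [Field k] {AG AH : Type u} [CommRing AG] [HopfAlgebra k AG]
  [CommRing AH] [HopfAlgebra k AH] [Algebra.FiniteType k AG] [Algebra.FiniteType k AH]

theorem isLinearlyReductive_of_isAffine (hG : HopfRep.IsLinearlyReductive k AG) (ψ : AG →ₐc[k] AH)
    (Q : Over (Spec (CommRingCat.of k))) (q : CoactBr.sp k AG ⟶ Q)
    (hq : RedSub.IsQuotient (CoactBr.pt (ψ : AG →ₐ[k] AH)) q) [IsAffine Q.left] :
    HopfRep.IsLinearlyReductive k AH := by
  letI := transl ψ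
  letI := isCoactAlg_transl ψ
  -- rings
  let R : Type u := Γ(Q.left, ⊤)
  let i := Q.left.isoSpec
  obtain ⟨φ, hφ⟩ := Spec.map_surjective (R := CommRingCat.of R) (S := CommRingCat.of AG) (q.left ≫ i.hom)
  obtain ⟨str, hstr⟩ := Spec.map_surjective (R := CommRingCat.of k) (S := CommRingCat.of R) (i.inv ≫ Q.hom)
  letI : Algebra k R := str.hom.toAlgebra
  letI : Algebra R AG := φ.hom.toAlgebra
  have hw : str ≫ φ = CommRingCat.ofHom (algebraMap k AG) := by
    refine Spec.map_injective ?_
    rw [Spec.map_comp, hφ, hstr, Category.assoc, Iso.hom_inv_id_assoc]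
    exact Over.w q
  haveI : IsScalarTower k R AG := IsScalarTower.of_algebraMap_eq fun r =>
    (congrArg (fun f : CommRingCat.of k ⟶ CommRingCat.of AG => f.hom r) hw).symm
  haveI : Module.FaithfullyFlat R AG := by
    haveI : Surjective q.left := hq.1
    haveI : Flat q.left := hq.2.1
    have hs : Surjective (Spec.map φ) := hφ.symm ▸ MorphismProperty.comp_mem (W := @Surjective) q.left i.hom hq.1 inferInstance
    have hf : Flat (Spec.map φ) := hφ.symm ▸ MorphismProperty.comp_mem (W := @Flat) q.left i.hom hq.2.1 inferInstance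
    haveI : Module.Flat R AG := (HasRingHomProperty.Spec_iff (P := @Flat)).1 hf
    exact Module.FaithfullyFlat.of_comap_surjective hs.1
  -- the two projections
  let T := AG ⊗[k] AH
  let π := CoactBr.pt (Algebra.TensorProduct.includeLeft : AG →ₐ[k] T)
  let πH := CoactBr.pt (Algebra.TensorProduct.includeRight : AH →ₐ[k] T)
  let ρ := CoactBr.pt (GLin.coactAlgHom k AH AG)
  have hρ : π * (πH ≫ CoactBr.pt (ψ : AG →ₐ[k] AH)) = ρ := translate_eq ψ
  have hqq : ρ ≫ q = π ≫ q := by
    have := H83.Fppf.eq_of_translate hq π πH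
    rwa [hρ] at this
  have hinv : ∀ r : R, GLin.coactAlgHom k AH AG (algebraMap R AG r) = algebraMap R AG r ⊗ₜ[k] (1 : AH) := by
    have h := congrArg (fun f => f.left ≫ i.hom) hqq
    have h' : Spec.map (φ ≫ CommRingCat.ofHom (GLin.coactAlgHom k AH AG).toRingHom) =
        Spec.map (φ ≫ CommRingCat.ofHom (Algebra.TensorProduct.includeLeft : AG →ₐ[k] T).toRingHom) := by
      rw [Spec.map_comp, Spec.map_comp, hφ]
      simp only [ρ, π, Over.comp_left, CoactBr.pt_left, Category.assoc] at h
      exact h
    intro r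
    exact congrArg (fun f : CommRingCat.of R ⟶ CommRingCat.of T => f.hom r) (Spec.map_injective h')
  -- the comparison map
  let incl : AG →ₐ[R] T := Algebra.TensorProduct.includeLeft
  let coR : AG →ₐ[R] T := { (GLin.coactAlgHom k AH AG).toRingHom with commutes' := fun r => hinv r }
  let canA : AG ⊗[R] AG →ₐ[k] T :=
    (Algebra.TensorProduct.lift incl coR fun _ _ => Commute.all _ _).restrictScalars k
  let L : AG →ₐ[k] AG ⊗[R] AG := Algebra.TensorProduct.includeLeft
  let R' : AG →ₐ[k] AG ⊗[R] AG := (Algebra.TensorProduct.includeRight : AG →ₐ[R] AG ⊗[R] AG).restrictScalars k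
  have hLR : CoactBr.pt L ≫ q = CoactBr.pt R' ≫ q := by
    refine Over.OverMorphism.ext ?_
    have key : φ ≫ CommRingCat.ofHom L.toRingHom = φ ≫ CommRingCat.ofHom R'.toRingHom := by
      refine CommRingCat.hom_ext (RingHom.ext fun r => ?_)
      show L (algebraMap R AG r) = R' (algebraMap R AG r)
      simp [L, R', Algebra.algebraMap_eq_smul_one, TensorProduct.smul_tmul]
    have key2 := congrArg Spec.map key
    rw [Spec.map_comp, Spec.map_comp, hφ, ← Category.assoc, ← Category.assoc] at key2
    exact (cancel_mono i.hom).1 key2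
  obtain ⟨h, hh⟩ := H83.Fppf.exists_translate hq hLR
  obtain ⟨w, hw1, hw2⟩ := exists_factor k AG AH (CoactBr.pt L) h
  obtain ⟨χ, rfl⟩ := exists_pt_eq w
  have hχρ : CoactBr.pt χ ≫ ρ = CoactBr.pt R' := by rw [← hρ, MonObj.comp_mul, ← Category.assoc, hw1, hw2, hh]
  have c1 : χ.comp canA = AlgHom.id k (AG ⊗[R] AG) := by
    have e1 : χ.comp (Algebra.TensorProduct.includeLeft : AG →ₐ[k] T) = L :=
      CoactBr.pt_injective ((CoactBr.pt_comp _ χ).trans hw1)
    have e2 : χ.comp (GLin.coactAlgHom k AH AG) = R' := CoactBr.pt_injective ((CoactBr.pt_comp _ χ).trans hχρ)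
    refine AlgHom.ext fun z => ?_
    induction z using TensorProduct.induction_on with
    | zero => simp
    | add x y hx hy => simp only [map_add, hx, hy]
    | tmul a b =>
      show χ ((a ⊗ₜ[k] (1 : AH)) * GLin.coactAlgHom k AH AG b) = a ⊗ₜ[R] b
      rw [map_mul, show χ (a ⊗ₜ[k] (1 : AH)) = L a from DFunLike.congr_fun e1 a,
        show χ (GLin.coactAlgHom k AH AG b) = R' b from DFunLike.congr_fun e2 b]
      simp [L, R', Algebra.TensorProduct.tmul_mul_tmul]
  have c2 : canA.comp χ = AlgHom.id k T := by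
    refine CoactBr.pt_injective ?_
    rw [CoactBr.pt_comp, CoactBr.pt_id]
    have hL' : CoactBr.pt canA ≫ CoactBr.pt L = π := by
      rw [← CoactBr.pt_comp]; exact congrArg _ (AlgHom.ext fun a => by simp [canA, L, incl]; rfl)
    have hR' : CoactBr.pt canA ≫ CoactBr.pt R' = ρ := by
      rw [← CoactBr.pt_comp]; exact congrArg _ (AlgHom.ext fun a => by simp [canA, R', coR, incl]; rfl)
    -- the two projections are jointly monic
    have hu : lift π πH ≫ (CoactBr.sp k AG ◁ CoactBr.pt (ψ : AG →ₐ[k] AH)) ≫ μ[CoactBr.sp k AG] = ρ := by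
      rw [lift_whiskerLeft_assoc, ← hρ, Hom.mul_def]
    haveI : IsSplitMono (lift π πH) := IsSplitMono.mk' ⟨Functor.LaxMonoidal.μ (algSpec (CommRingCat.of k))
          (Opposite.op (CommAlgCat.of k AG)) (Opposite.op (CommAlgCat.of k AH)), inv_μ_eq k AG AH⟩
    rw [← cancel_mono (lift π πH), Category.id_comp, Category.assoc]
    refine hq.2.2.2.hom_ext ?_ ?_
    · simp only [Category.assoc, lift_fst]
      rw [show CoactBr.pt χ ≫ π = CoactBr.pt L from hw1, hL']
    · simp only [Category.assoc, hu, hχρ, hR']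
  let can : AG ⊗[R] AG →ₗ[R] T :=
    (Algebra.TensorProduct.lift incl coR fun _ _ => Commute.all _ _).toLinearMap.restrictScalars R
  let G : Gal k AH R AG :=
    { inv := hinv
      can := can
      can_tmul := fun a b => rfl
      bij := ⟨Function.LeftInverse.injective (g := χ) fun z => DFunLike.congr_fun c1 z,
        Function.RightInverse.surjective (g := χ) fun z => DFunLike.congr_fun c2 z⟩ }
  obtain ⟨α₀, h1, h0⟩ := H66.Tame.hasIntegral_iff.2 hG
  refine isLinearlyReductive_of_galois G α₀ (fun p => ?_) h1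
  have h := congrArg ((ψ : AG →ₐ[k] AH).toLinearMap.lTensor k) (h0 p)
  rw [LinearMap.lTensor_tmul, AlgHom.toLinearMap_apply, map_one] at h
  rw [h, GLin.coactAlgHom_apply]
  show _ = α₀.rTensor AH ((ψ : AG →ₐ[k] AH).toLinearMap.lTensor AG (CoalgebraStruct.comul p))
  generalize CoalgebraStruct.comul (R := k) p = z
  induction z using TensorProduct.induction_on with
  | zero => simp
  | add x y hx hy => simp only [map_add, hx, hy]
  | tmul x y => simp

end

end Groth.Agent.H66.Quot
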